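import Groth.Agent.S15756
import Groth.Agent.S18860
import Groth.Agent.S6004

/-!
# Sections of smooth affine schemes over a punctured henselian pair
-/

set_option autoImplicit false
set_option maxHeartbeats 800000

universe u

open CategoryTheory AlgebraicGeometry

noncomputable section

namespace GrothLib.ApproxSec21

variable {A : Type u} [CommRing A] (t : A)

theorem away_comp :
    (Localization.awayMap (algebraMap A (AdicCompletion (Ideal.span {t}) A)) t).comp
        (algebraMap A (Localization.Away t)) =
      (algebraMap (AdicCompletion (Ideal.span {t}) A)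
        (Localization.Away (algebraMap A (AdicCompletion (Ideal.span {t}) A) t))).comp
        (algebraMap A (AdicCompletion (Ideal.span {t}) A)) :=
  IsLocalization.map_comp _

/-- Approximation of points of smooth algebras over the punctured pair. -/
theorem exists_algHom [HenselianRing A (Ideal.span {t})]
    (hbd : ∃ N : ℕ, ∀ a : A, (∃ m : ℕ, t ^ m * a = 0) → t ^ N * a = 0)
    (B' : Type u) [CommRing B'] [Algebra (Localization.Away t) B'] [Algebra A B']
    [IsScalarTower A (Localization.Away t) B'] [Algebra.Smooth (Localization.Away t) B']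
    (f : B' →+* Localization.Away (algebraMap A (AdicCompletion (Ideal.span {t}) A) t))
    (hf : f.comp (algebraMap (Localization.Away t) B') =
      Localization.awayMap (algebraMap A (AdicCompletion (Ideal.span {t}) A)) t) :
    ∃ g : B' →+* Localization.Away t, g.comp (algebraMap (Localization.Away t) B') = RingHom.id _ := by
  classical
  let C := AdicCompletion (Ideal.span {t}) A
  let t' : C := algebraMap A C t
  let ιC : C →+* Localization.Away t' := algebraMap C (Localization.Away t')
  haveI : Algebra.FiniteType A (Localization.Away t) := inferInstance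
  haveI : Algebra.FiniteType A B' := Algebra.FiniteType.trans (S := Localization.Away t) inferInstance inferInstance
  obtain ⟨d, π, hπ⟩ := Algebra.FiniteType.iff_quotient_mvPolynomial''.1 (inferInstance : Algebra.FiniteType A B')
  have hfA : ∀ a : A, f (algebraMap A B' a) = ιC (algebraMap A C a) := fun a => by
    rw [IsScalarTower.algebraMap_apply A (Localization.Away t) B']
    exact (DFunLike.congr_fun hf _).trans (DFunLike.congr_fun (away_comp t) a)
  have hsur : ∀ i, ∃ (m : ℕ) (a : C), f (π (MvPolynomial.X i)) * ιC t' ^ m = ιC a := fun i => by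
    obtain ⟨⟨a, s⟩, hs⟩ := IsLocalization.surj (Submonoid.powers t') (f (π (MvPolynomial.X i)))
    obtain ⟨m, hm⟩ := s.2
    refine ⟨m, a, ?_⟩
    rw [← map_pow]
    have e : t' ^ m = (s : C) := hm
    rw [e]
    exact hs
  choose m a ha using hsur
  let π₁ : MvPolynomial (Fin d) A →ₐ[A] B' :=
    MvPolynomial.aeval fun i => algebraMap A B' t ^ m i * π (MvPolynomial.X i)
  let α : MvPolynomial (Fin d) A →ₐ[A] C := MvPolynomial.aeval a
  have hcomp : ∀ P, f (π₁ P) = ιC (α P) := by
    intro P
    induction P using MvPolynomial.induction_on with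
    | C r => simp only [π₁, α, MvPolynomial.aeval_C]; exact hfA r
    | add p q hp hq => rw [map_add, map_add, map_add, map_add, hp, hq]
    | mul_X p i hp =>
      rw [map_mul, map_mul, map_mul, map_mul, hp]
      congr 1
      simp only [π₁, α, MvPolynomial.aeval_X]
      rw [map_mul, map_pow, hfA, mul_comm]
      exact ha i
  let K : Ideal (MvPolynomial (Fin d) A) := RingHom.ker π₁.toRingHom ⊓ RingHom.ker α.toRingHom
  let B := MvPolynomial (Fin d) A ⧸ K
  let p : B →ₐ[A] B' := Ideal.Quotient.liftₐ K π₁ fun x hx => hx.1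
  let σ : B →ₐ[A] C := Ideal.Quotient.liftₐ K α fun x hx => hx.2
  letI : Algebra B B' := p.toRingHom.toAlgebra
  haveI : IsScalarTower A B B' := IsScalarTower.of_algebraMap_eq fun c => (p.commutes c).symm
  have htu : IsUnit (algebraMap A B' t) := by
    rw [IsScalarTower.algebraMap_apply A (Localization.Away t) B']
    exact (IsLocalization.Away.algebraMap_isUnit t).map _
  have hpow : ∀ n : ℕ, algebraMap B B' (algebraMap A B (t ^ n)) = algebraMap A B' t ^ n := fun n => by
    rw [← IsScalarTower.algebraMap_apply, map_pow]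
  have hrange : ∀ P, ∃ (n : ℕ) (Q : MvPolynomial (Fin d) A), π P * algebraMap A B' t ^ n = π₁ Q := by
    intro P
    induction P using MvPolynomial.induction_on with
    | C r => exact ⟨0, MvPolynomial.C r, by simp [π₁, ← MvPolynomial.algebraMap_eq]⟩
    | add p q hp hq =>
      obtain ⟨n, Q, hQ⟩ := hp
      obtain ⟨n', Q', hQ'⟩ := hq
      refine ⟨n + n', Q * MvPolynomial.C (t ^ n') + Q' * MvPolynomial.C (t ^ n), ?_⟩
      simp only [map_add, map_mul, ← hQ, ← hQ', π₁, MvPolynomial.aeval_C, map_pow]
      ring
    | mul_X p i hp =>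
      obtain ⟨n, Q, hQ⟩ := hp
      refine ⟨n + m i, Q * MvPolynomial.X i, ?_⟩
      simp only [map_mul, ← hQ, π₁, MvPolynomial.aeval_X]
      ring
  haveI : IsLocalization (Algebra.algebraMapSubmonoid B (Submonoid.powers t)) B' := by
    refine (isLocalization_iff _ _).2 ⟨?_, ?_, ?_⟩
    · rintro ⟨_, _, ⟨n, rfl⟩, rfl⟩
      show IsUnit (algebraMap B B' (algebraMap A B (t ^ n)))
      rw [hpow]
      exact htu.pow n
    · intro z
      obtain ⟨P, rfl⟩ := hπ z
      obtain ⟨n, Q, hQ⟩ := hrange P
      refine ⟨⟨Ideal.Quotient.mk K Q, algebraMap A B (t ^ n), t ^ n, ⟨n, rfl⟩, rfl⟩, ?_⟩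
      show π P * algebraMap B B' (algebraMap A B (t ^ n)) = π₁ Q
      rw [hpow, hQ]
    · intro x y hxy
      obtain ⟨P, rfl⟩ := Ideal.Quotient.mk_surjective x
      obtain ⟨Q, rfl⟩ := Ideal.Quotient.mk_surjective y
      change π₁ P = π₁ Q at hxy
      have h0 : ιC (α (P - Q)) = ιC 0 := by rw [← hcomp, map_sub, hxy, sub_self, map_zero, map_zero]
      obtain ⟨⟨_, n, rfl⟩, hn⟩ := (IsLocalization.eq_iff_exists (Submonoid.powers t') _).1 h0
      refine ⟨⟨algebraMap A B (t ^ n), t ^ n, ⟨n, rfl⟩, rfl⟩, ?_⟩
      show Ideal.Quotient.mk K (MvPolynomial.C (t ^ n)) * Ideal.Quotient.mk K P =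
        Ideal.Quotient.mk K (MvPolynomial.C (t ^ n)) * Ideal.Quotient.mk K Q
      rw [← map_mul, ← map_mul, Ideal.Quotient.eq, ← mul_sub]
      refine ⟨RingHom.mem_ker.2 ?_, RingHom.mem_ker.2 ?_⟩
      · show π₁ _ = 0
        rw [map_mul, map_sub, hxy, sub_self, mul_zero]
      · show α _ = 0
        rw [map_mul]
        simp only [mul_zero] at hn
        rw [show α (MvPolynomial.C (t ^ n)) = t' ^ n by simp [α, t']]
        exact hn
  let L := Localization (Algebra.algebraMapSubmonoid B (Submonoid.powers t))
  let e : L ≃ₐ[B] B' := IsLocalization.algEquiv (Algebra.algebraMapSubmonoid B (Submonoid.powers t)) L B'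
  have he : (e.toRingEquiv.toRingHom).comp (algebraMap (Localization.Away t) L) =
      algebraMap (Localization.Away t) B' := by
    refine IsLocalization.ringHom_ext (Submonoid.powers t) (RingHom.ext fun c => ?_)
    show e (algebraMap (Localization.Away t) L (algebraMap A (Localization.Away t) c)) =
      algebraMap (Localization.Away t) B' (algebraMap A (Localization.Away t) c)
    rw [← IsScalarTower.algebraMap_apply A (Localization.Away t) L,
      ← IsScalarTower.algebraMap_apply A (Localization.Away t) B', IsScalarTower.algebraMap_apply A B L,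
      e.commutes, ← IsScalarTower.algebraMap_apply]
  let e' : L ≃ₐ[Localization.Away t] B' := AlgEquiv.ofRingEquiv (f := e.toRingEquiv) fun x => DFunLike.congr_fun he x
  have hsm : Algebra.Smooth (Localization.Away t) L := Algebra.Smooth.of_equiv e'.symm
  obtain ⟨τ, -⟩ := Groth.Agent.S15756.result A t hbd B hsm 0 σ
  let g₀ : B →+* Localization.Away t := (algebraMap A (Localization.Away t)).comp τ.toRingHom
  have hg₀ : ∀ y : Algebra.algebraMapSubmonoid B (Submonoid.powers t), IsUnit (g₀ y) := by
    rintro ⟨_, _, ⟨n, rfl⟩, rfl⟩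
    show IsUnit (algebraMap A (Localization.Away t) (τ (algebraMap A B (t ^ n))))
    rw [τ.commutes, Algebra.algebraMap_self, RingHom.id_apply, map_pow]
    exact (IsLocalization.Away.algebraMap_isUnit t).pow n
  refine ⟨IsLocalization.lift hg₀, IsLocalization.ringHom_ext (Submonoid.powers t) (RingHom.ext fun c => ?_)⟩
  show IsLocalization.lift hg₀ (algebraMap (Localization.Away t) B' (algebraMap A (Localization.Away t) c)) =
    algebraMap A (Localization.Away t) c
  rw [← IsScalarTower.algebraMap_apply A (Localization.Away t) B', IsScalarTower.algebraMap_apply A B B',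
    IsLocalization.lift_eq]
  show algebraMap A (Localization.Away t) (τ (algebraMap A B c)) = _
  rw [τ.commutes, Algebra.algebraMap_self, RingHom.id_apply]

/-- A smooth affine scheme with a point over the completed punctured spectrum has one over the punctured spectrum. -/
theorem exists_section [HenselianRing A (Ideal.span {t})]
    (hbd : ∃ N : ℕ, ∀ a : A, (∃ m : ℕ, t ^ m * a = 0) → t ^ N * a = 0)
    (P : Over (Spec (CommRingCat.of (Localization.Away t)))) [IsAffineHom P.hom] [Smooth P.hom]
    (s : Spec (CommRingCat.of (Localization.Away (algebraMap A (AdicCompletion (Ideal.span {t}) A) t))) ⟶ P.left)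
    (hs : s ≫ P.hom =
      Spec.map (CommRingCat.ofHom (Localization.awayMap (algebraMap A (AdicCompletion (Ideal.span {t}) A)) t))) :
    ∃ s₀ : Spec (CommRingCat.of (Localization.Away t)) ⟶ P.left, s₀ ≫ P.hom = 𝟙 _ := by
  haveI : IsAffine P.left := isAffine_of_isAffineHom P.hom
  let φ := Spec.preimage (P.left.isoSpec.inv ≫ P.hom)
  have hφ : Spec.map φ = P.left.isoSpec.inv ≫ P.hom := Spec.map_preimage _
  letI : Algebra (Localization.Away t) Γ(P.left, ⊤) := φ.hom.toAlgebra
  letI : Algebra A Γ(P.left, ⊤) := (φ.hom.comp (algebraMap A (Localization.Away t))).toAlgebra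
  haveI : IsScalarTower A (Localization.Away t) Γ(P.left, ⊤) := IsScalarTower.of_algebraMap_eq' rfl
  haveI : Algebra.Smooth (Localization.Away t) Γ(P.left, ⊤) := by
    have h : Smooth (Spec.map φ) := by rw [hφ]; infer_instance
    exact RingHom.smooth_algebraMap.1 ((HasRingHomProperty.Spec_iff (P := @Smooth)).1 h)
  let ψ := Spec.preimage (s ≫ P.left.isoSpec.hom)
  have hψ : ψ.hom.comp (algebraMap (Localization.Away t) Γ(P.left, ⊤)) =
      Localization.awayMap (algebraMap A (AdicCompletion (Ideal.span {t}) A)) t := by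
    have h : Spec.map (φ ≫ ψ) = Spec.map (CommRingCat.ofHom
        (Localization.awayMap (algebraMap A (AdicCompletion (Ideal.span {t}) A)) t)) := by
      rw [Spec.map_comp, Spec.map_preimage, hφ, Category.assoc, Iso.hom_inv_id_assoc, hs]
    exact congrArg CommRingCat.Hom.hom (Spec.map_injective h)
  obtain ⟨g, hg⟩ := exists_algHom t hbd Γ(P.left, ⊤) ψ.hom hψ
  refine ⟨Spec.map (CommRingCat.ofHom g) ≫ P.left.isoSpec.inv, ?_⟩
  rw [Category.assoc, ← hφ, ← Spec.map_comp, ← Spec.map_id]
  congr 1
  ext1
  exact hg

end GrothLib.ApproxSec21
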