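import Groth.Agent.ApproxSec21.Core
import Groth.Agent.Lib.Hensel.PairHull
import Groth.Agent.Lib.Hensel.Henselization
import Groth.Agent.Lib.DenseProj1.Henselian
import Mathlib

/-!
# Comparison of a henselization of the polynomial ring with the power series ring
-/

set_option autoImplicit false
set_option maxHeartbeats 800000

universe u

open Polynomial

noncomputable section

namespace GrothLib.ApproxSec21

variable {R : Type u} [CommRing R] {B : Type u} [CommRing B] [Algebra R[X] B]

theorem exists_completion_map (hB : Hens2.IsPairHenselization R[X] (Ideal.span {(X : R[X])}) B)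
    (ψ : B →ₐ[R[X]] PowerSeries R) :
    ∃ θ : PowerSeries R →+* AdicCompletion (Ideal.span {algebraMap R[X] B X}) B,
      ∀ b, θ (ψ b) = algebraMap B _ b := by
  have hψ : ∀ p : R[X], ψ (algebraMap R[X] B p) = (p : PowerSeries R) := fun p => by
    rw [ψ.commutes]
    simp [PowerSeries.algebraMap_apply', PowerSeries.map]
  have hψX : ψ (algebraMap R[X] B X) = PowerSeries.X := by rw [hψ, Polynomial.coe_X]
  let t := algebraMap R[X] B X
  let J : Ideal (PowerSeries R) := Ideal.span {PowerSeries.X}
  have hle : ∀ m, Ideal.span {t} ^ m ≤ (J ^ m).comap ψ.toRingHom := fun m => by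
    rw [Ideal.span_singleton_pow, Ideal.span_le, Set.singleton_subset_iff]
    show ψ (t ^ m) ∈ J ^ m
    rw [map_pow, hψX, Ideal.span_singleton_pow]
    exact Ideal.mem_span_singleton_self _
  let q : ∀ m, B ⧸ Ideal.span {t} ^ m →+* PowerSeries R ⧸ J ^ m := fun m => Ideal.quotientMap _ ψ.toRingHom (hle m)
  have hsub : ∀ (m : ℕ) (b : B), ∃ p : R[X], t ^ m ∣ b - algebraMap R[X] B p := fun m b => by
    obtain ⟨p, hp⟩ := GrothLib.Hensel.exists_sub_mem_map_pow (Ideal.span {(X : R[X])})
      (GrothLib.Hensel.IsPairHenselization.exists_sub_mem hB) m b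
    rw [Ideal.span_singleton_pow, Ideal.map_span, Set.image_singleton, map_pow, Ideal.mem_span_singleton] at hp
    exact ⟨p, hp⟩
  have hq : ∀ m, Function.Bijective (q m) := by
    intro m
    refine ⟨?_, ?_⟩
    · rw [injective_iff_map_eq_zero]
      intro z hz
      obtain ⟨b, rfl⟩ := Ideal.Quotient.mk_surjective z
      change Ideal.Quotient.mk _ (ψ b) = 0 at hz
      rw [Ideal.Quotient.eq_zero_iff_mem, Ideal.span_singleton_pow, Ideal.mem_span_singleton] at hz
      rw [Ideal.Quotient.eq_zero_iff_mem, Ideal.span_singleton_pow, Ideal.mem_span_singleton]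
      obtain ⟨p, hp⟩ := hsub m b
      have h1 : PowerSeries.X ^ m ∣ ψ (algebraMap R[X] B p) := by
        have h := map_dvd ψ hp
        rw [map_pow, map_sub, hψX] at h
        exact (dvd_sub_right hz).1 h
      rw [hψ, PowerSeries.X_pow_dvd_iff] at h1
      have h2 : (X : R[X]) ^ m ∣ p := Polynomial.X_pow_dvd_iff.2 fun i hi => by
        simpa [Polynomial.coeff_coe] using h1 i hi
      have h3 := map_dvd (algebraMap R[X] B) h2
      rw [map_pow] at h3
      simpa [t] using dvd_add hp h3
    · intro z
      obtain ⟨y, rfl⟩ := Ideal.Quotient.mk_surjective z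
      refine ⟨Ideal.Quotient.mk _ (algebraMap R[X] B (PowerSeries.trunc m y)), ?_⟩
      show Ideal.Quotient.mk _ (ψ (algebraMap R[X] B _)) = _
      rw [hψ, Ideal.Quotient.eq, Ideal.span_singleton_pow, Ideal.mem_span_singleton, PowerSeries.X_pow_dvd_iff]
      intro i hi
      rw [map_sub, Polynomial.coeff_coe, PowerSeries.coeff_trunc, if_pos hi, sub_self]
  let fm : ∀ m, PowerSeries R →+* B ⧸ Ideal.span {t} ^ m := fun m =>
    (RingEquiv.ofBijective (q m) (hq m)).symm.toRingHom.comp (Ideal.Quotient.mk _)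
  have hfm : ∀ m x, q m (fm m x) = Ideal.Quotient.mk _ x := fun m x =>
    (RingEquiv.ofBijective (q m) (hq m)).apply_symm_apply _
  have hcompat : ∀ {m n : ℕ} (h : m ≤ n), (Ideal.Quotient.factorPow (Ideal.span {t}) h).comp (fm n) = fm m := by
    intro m n h
    refine RingHom.ext fun x => (hq m).1 ?_
    rw [hfm]
    obtain ⟨b, hb⟩ := Ideal.Quotient.mk_surjective (fm n x)
    have h1 := hfm n x
    rw [← hb] at h1
    change Ideal.Quotient.mk _ (ψ b) = Ideal.Quotient.mk _ x at h1
    show q m (Ideal.Quotient.factorPow (Ideal.span {t}) h (fm n x)) = _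
    rw [← hb]
    show Ideal.Quotient.mk _ (ψ b) = _
    rw [Ideal.Quotient.eq] at h1 ⊢
    exact Ideal.pow_le_pow_right h h1
  refine ⟨AdicCompletion.liftRingHom (Ideal.span {t}) fm hcompat, fun b => AdicCompletion.ext_evalₐ fun m => ?_⟩
  rw [AdicCompletion.evalₐ_liftRingHom, AdicCompletion.algebraMap_apply]
  refine (hq m).1 ?_
  rw [hfm]
  simp
  rfl

theorem bounded_torsion (hB : Hens2.IsPairHenselization R[X] (Ideal.span {(X : R[X])}) B) :
    ∃ N : ℕ, ∀ a : B, (∃ m : ℕ, algebraMap R[X] B X ^ m * a = 0) → algebraMap R[X] B X ^ N * a = 0 := by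
  haveI : Module.Flat R[X] B := GrothLib.Hensel.IsPairHenselization.flat hB
  have hreg : IsSMulRegular B (algebraMap R[X] B X) :=
    IsSMulRegular.of_flat (S := B) (fun a b h => Polynomial.monic_X.isRegular.left (by simpa using h))
  refine ⟨0, fun a ⟨m, hm⟩ => ?_⟩
  rw [pow_zero, one_mul]
  induction m with
  | zero => simpa using hm
  | succ m ih =>
    refine ih (hreg ?_)
    show algebraMap R[X] B X * _ = algebraMap R[X] B X * 0
    rw [mul_zero, ← mul_assoc, ← pow_succ']
    exact hm

end GrothLib.ApproxSec21
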